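import Cfsg.Agent.H18.PClosed
import Cfsg.Agent.S0494
import Cfsg.Agent.S0495
import Cfsg.Agent.S0497
import Cfsg.Agent.S1011
import Cfsg.Agent.S0498
import Cfsg.Agent.S1020
import Cfsg.Agent.S1021
import Cfsg.Agent.S0981
import Cfsg.Agent.S0496
import Cfsg.Agent.S0983
import Cfsg.Agent.S0254
import Cfsg.Agent.H34.PDeg2
import Cfsg.Agent.H34.Deg5
import Cfsg.Agent.H78.L33V
import Cfsg.Agent.H78.A7V

set_option autoImplicit false
open Cfsg

/-! The degree data of the small simple groups. -/

namespace Cfsg.Agent.H18.SG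

open Cfsg.Agent.H34.Deg Cfsg.Agent.H18.PCl

universe u v

/-- a group all of whose simple sections by order are abelian is solvable. -/
theorem solvable_Z : ∀ (n : ℕ) (G : Type u) [Group G] [Finite G], Nat.card G = n →
    (∀ (H : Type u) [Group H] [Finite H], IsSimpleGroup H → ¬ IsMulCommutative H → ¬ Nat.card H ∣ n) →
    Group.IsSolvable G := by
  intro n
  induction n using Nat.strong_induction_on with
  | _ n ih =>
    intro G _ _ hn hi
    rcases subsingleton_or_nontrivial G with hG | hG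
    · infer_instance
    · obtain ⟨N, hNn, hNt, hs⟩ := exists_maxNormal G
      have hdN : Nat.card N ∣ n := by rw [← hn]; exact Subgroup.card_subgroup_dvd_card N
      have hdQ : Nat.card (G ⧸ N) ∣ n := by rw [← hn]; exact Subgroup.card_quotient_dvd_card N
      have hlt : Nat.card N < n := by
        rw [← hn]
        exact lt_of_le_of_ne (Subgroup.card_le_card_group N) (fun h => hNt (Subgroup.eq_top_of_card_eq N h))
      have h1 : Group.IsSolvable N := ih _ hlt N rfl (fun H _ _ h1 h2 h3 => hi H h1 h2 (h3.trans hdN))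
      have h2 : IsMulCommutative (G ⧸ N) := by
        by_contra h
        exact hi (G ⧸ N) hs h hdQ
      have h3 : Group.IsSolvable (G ⧸ N) := Group.isSolvable_of_comm (fun a b => h2.is_comm.comm a b)
      refine Group.isSolvable_of_ker_le_range N.subtype (QuotientGroup.mk' N) ?_
      rw [QuotientGroup.ker_mk', Subgroup.range_subtype]

theorem solvable_Z2 {G : Type u} [Group G] [Finite G] (hns : ¬ IsSimpleGroup G)
    (hi : ∀ (H : Type u) [Group H] [Finite H], IsSimpleGroup H → ¬ IsMulCommutative H → Nat.card H < Nat.card G →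
      ¬ Nat.card H ∣ Nat.card G) : Group.IsSolvable G := by
  rcases subsingleton_or_nontrivial G with hG | hG
  · infer_instance
  · obtain ⟨N, hNn, hNt, hs⟩ := exists_maxNormal G
    have hc : Nat.card G = Nat.card (G ⧸ N) * Nat.card N := Subgroup.card_eq_card_quotient_mul_card_subgroup N
    have hdN : Nat.card N ∣ Nat.card G := Subgroup.card_subgroup_dvd_card N
    have hdQ : Nat.card (G ⧸ N) ∣ Nat.card G := Subgroup.card_quotient_dvd_card N
    have hlt : Nat.card N < Nat.card G :=
      lt_of_le_of_ne (Subgroup.card_le_card_group N) (fun h => hNt (Subgroup.eq_top_of_card_eq N h))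
    have hN1 : Nat.card N ≠ 1 := by
      intro h
      apply hns
      have h1 : N = ⊥ := Subgroup.card_eq_one.1 h
      subst h1
      exact IsSimpleGroup.isSimpleGroup_of_surjective (QuotientGroup.quotientBot (G := G)).toMonoidHom
        (QuotientGroup.quotientBot (G := G)).surjective
    have h1 : Group.IsSolvable N := solvable_Z _ N rfl
      (fun H _ _ h1 h2 h3 => hi H h1 h2 ((Nat.le_of_dvd Nat.card_pos h3).trans_lt hlt) (h3.trans hdN))
    have h2 : IsMulCommutative (G ⧸ N) := by
      by_contra h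
      refine hi (G ⧸ N) hs h ?_ hdQ
      rw [hc]
      have : 0 < Nat.card (G ⧸ N) := Nat.card_pos
      have h0 : 0 < Nat.card N := Nat.card_pos
      nlinarith [Nat.lt_of_le_of_ne h0 (Ne.symm hN1)]
    have h3 : Group.IsSolvable (G ⧸ N) := Group.isSolvable_of_comm (fun a b => h2.is_comm.comm a b)
    refine Group.isSolvable_of_ker_le_range N.subtype (QuotientGroup.mk' N) ?_
    rw [QuotientGroup.ker_mk', Subgroup.range_subtype]

theorem not_solvable {S : Type u} [Group S] [Finite S] [IsSimpleGroup S] (hS : ¬ IsMulCommutative S) :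
    ¬ Group.IsSolvable S := by
  intro h
  apply hS
  exact ⟨⟨IsSimpleGroup.comm_iff_isSolvable.2 h⟩⟩

theorem psl_data {S : Type u} [Group S] {F : Type} [Field F] [Fintype F] {q : ℕ} (hF : Fintype.card F = q)
    (hq : (Odd q ∧ 7 ≤ q) ∨ ((2 : F) = 0 ∧ 4 ≤ q))
    (e : Nonempty (S ≃* Matrix.ProjectiveSpecialLinearGroup (Fin 2) F)) :
    (∀ d ∈ charDegrees S, d = 1 ∨ d = q ∨ d ∣ q + 1 ∨ d ∣ q - 1) ∧
    (∀ d, d = q ∨ d = q + 1 ∨ d = q - 1 → d ∈ charDegrees S) := by
  classical
  subst hF
  refine graph_data_group (Or.inl e) ?_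
  rcases hq with ⟨h1, h2⟩ | ⟨h1, h2⟩
  · obtain ⟨k, ⟨D⟩⟩ := exists_oddData F h1
    exact graph_data_odd D (by have := D.hk; omega)
  · exact graph_data_even h1 h2

theorem exists_field_two (n : ℕ) (hn : n ≠ 0) : ∃ (F : Type) (_ : Field F) (_ : Fintype F),
    Fintype.card F = 2 ^ n ∧ (2 : F) = 0 := by
  letI : Fintype (GaloisField 2 n) := Fintype.ofFinite _
  refine ⟨GaloisField 2 n, inferInstance, inferInstance, ?_, ?_⟩
  · rw [← Nat.card_eq_fintype_card, GaloisField.card 2 n hn]
  · exact CharP.cast_eq_zero (GaloisField 2 n) 2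

theorem exists_field_nine : ∃ (F : Type) (_ : Field F) (_ : Fintype F), Fintype.card F = 9 := by
  letI : Fintype (GaloisField 3 2) := Fintype.ofFinite _
  refine ⟨GaloisField 3 2, inferInstance, inferInstance, ?_⟩
  rw [← Nat.card_eq_fintype_card, GaloisField.card 3 2 (by norm_num)]; norm_num


open Subgroup in
theorem closed_S {p : ℕ} [hp : Fact p.Prime] {G : Type u} [Group G] [Finite G]
    (hsol : Group.IsSolvable G) (hp2 : ¬ p ^ 2 ∣ Nat.card G) (hg : Good p (Nat.card G)) (P : Sylow p G) :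
    (P : Subgroup G).Normal := by
  classical
  by_contra hPn
  have hPc : ¬ (∀ s : Nat.Primes, Cfsg.pCore (s : ℕ) G ≤ centralizer ((P : Subgroup G) : Set G)) := by
    intro hall
    have h1 : Cfsg.fittingSubgroup G ≤ centralizer ((P : Subgroup G) : Set G) := by
      rw [Cfsg.Agent.Solv.fitting_eq_iSup_pCore]
      exact iSup_le hall
    have h2 : (P : Subgroup G) ≤ Cfsg.fittingSubgroup G := by
      refine le_trans ?_ (Cfsg.Agent.Solv.centralizer_fitting_le (G := G))
      rw [← Subgroup.le_centralizer_iff]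
      exact h1
    have h3 : Group.IsNilpotent (Cfsg.fittingSubgroup G) := Cfsg.Agent.Solv.fitting_isNilpotent
    apply hPn
    refine normal_of_subgroupOf P _ h2 ?_
    have h4 : ∀ (q : ℕ) (_ : Fact q.Prime) (Q : Sylow q (Cfsg.fittingSubgroup G)),
        (Q : Subgroup (Cfsg.fittingSubgroup G)).Normal :=
      ((Group.isNilpotent_of_finite_tfae (G := Cfsg.fittingSubgroup G)).out 0 3).1 h3
    exact h4 p hp (P.subtype h2)
  push Not at hPc
  obtain ⟨⟨s, hs⟩, hs1⟩ := hPc
  haveI : Fact s.Prime := ⟨hs⟩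
  have hPinv : ∀ (K : Subgroup G), K.Normal → ∀ g ∈ (P : Subgroup G), ∀ x ∈ K, g * x * g⁻¹ ∈ K :=
    fun K hK g _ x hx => hK.conj_mem x hx g
  by_cases hsp : s = p
  · subst hsp
    apply hs1
    have h1 : Cfsg.pCore s G ≤ (P : Subgroup G) := Cfsg.Agent.Solv.pCore_le_sylow P
    intro x hx
    exact mem_centralizer_iff.2 (fun g hg' => comm_of_sq P hp2 g hg' x (h1 hx))
  have hQs : IsPGroup s (Cfsg.pCore s G) := Cfsg.Agent.Solv.pCore_isPGroup s
  obtain ⟨b, c, hc1, hc2, hc3, hc4⟩ := exists_pow_of_not_le hsp (P : Subgroup G) (Cfsg.pCore s G) P.isPGroup' hQs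
    (hPinv _ inferInstance) hs1
  have hQd : Nat.card (Cfsg.pCore s G) ∣ Nat.card G := Subgroup.card_subgroup_dvd_card _
  exact hg s c hs hsp hc1 ((Dvd.intro_left _ rfl).trans (by rw [← pow_add, ← hc2]; exact hQd)) hc4

theorem n360sol {G : Type u} [Group G] [Finite G] (hcard : Nat.card G = 360) (hsol : Group.IsSolvable G)
    (h10 : ∃ d ∈ Cfsg.charDegrees G, 10 ∣ d) : False := by
  haveI : Fact (Nat.Prime 5) := ⟨by norm_num⟩
  obtain ⟨P⟩ : Nonempty (Sylow 5 G) := inferInstance
  have h1 := closed_S hsol (by rw [hcard]; norm_num) (by rw [hcard]; exact good_of_B (by norm_num) (by decide +kernel)) P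
  obtain ⟨d, hd, hd'⟩ := h10
  exact not_mem_degreePrimes P h1 (comm_of_sq P (by rw [hcard]; norm_num))
    ⟨by norm_num, d, hd, (show 5 ∣ 10 by norm_num).trans hd'⟩

end Cfsg.Agent.H18.SG
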